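import Groth.Agent.S9684
import Groth.Agent.DeltaZ.Scheme
import Groth.Agent.Catenary.Space
import Groth.Agent.SpQS.TrdegQF
import Groth.Agent.SpRelDim.Trdeg

/-!
# Dimension functions on the generalisations of a point
-/

set_option autoImplicit false
set_option linter.style.haveILetI false

universe u

open CategoryTheory CategoryTheory.Limits AlgebraicGeometry Topology TopologicalSpace

set_option backward.isDefEq.respectTransparency false

namespace Groth.Agent.CatenarySp

/-- near a point over a universally catenary local ring, a function of image and residue transcendence degree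
is a dimension function on generalisations -/
theorem exists_dimFun_gens {S : Scheme.{u}} [IsLocallyNoetherian S] (s : S)
    (hs : CAlg.IsUniversallyCatenary (S.presheaf.stalk s)) :
    ∃ c : S → ℤ, ∀ {U : Scheme.{u}} (g : U ⟶ S) [LocallyOfFiniteType g] (u : U), g u = s →
      ∀ w v : U, w ⤳ v → v ⤳ u → w ≠ v →
        c (g v) + (Dual3.resTrdeg g v).toNat < c (g w) + (Dual3.resTrdeg g w).toNat ∧
          ((∀ z : U, w ⤳ z → z ⤳ v → z = w ∨ z = v) →
            c (g w) + (Dual3.resTrdeg g w).toNat = c (g v) + (Dual3.resTrdeg g v).toNat + 1) := by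
  let A := S.presheaf.stalk s
  let S' := Spec A
  let j : S' ⟶ S := S.fromSpecStalk s
  let δ : S' → ℤ := fun p => ((Order.coheight (α := PrimeSpectrum A) p).toNat : ℤ)
  have hcat : CAlg.IsCatenary A := Catenary.isCatenary_of_isUniversallyCatenary hs
  have hset : Cyc.IsSetup S' δ := by
    refine ⟨inferInstance, fun x => ?_, DeltaZ.dimFun_coheight hcat⟩
    exact Catenary.isUniversallyCatenary_stalk (isAffineOpen_top S') x trivial
      (Catenary.isUniversallyCatenary_of_ringEquiv (Scheme.ΓSpecIso A).symm.commRingCatIsoToRingEquiv hs)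
  refine ⟨Function.extend j δ 0, fun {U} g _ u hu w v hwv hvu hne => ?_⟩
  let q : pullback g j ⟶ U := pullback.fst g j
  let f : pullback g j ⟶ S' := pullback.snd g j
  let δX : ↥(pullback g j) → ℤ := fun x => δ (f x) + (Dual3.resTrdeg f x).toNat
  have hcompat : Cyc.DeltaCompat f δX δ := fun x => by
    obtain ⟨n, hn, -⟩ := DimFormula.exists_trdeg_eq f x
    refine ⟨n, hn, ?_⟩
    show δ (f x) + _ = _
    rw [show Dual3.resTrdeg f x = n from hn, Cardinal.toNat_natCast]
  have hdim := S9684.result f δ hset δX hcompat
  have hval : ∀ x, δX x = Function.extend j δ 0 (g (q x)) + (Dual3.resTrdeg g (q x)).toNat := fun x => by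
    have hc : q ≫ g = f ≫ j := pullback.condition
    have hx : g (q x) = j (f x) := by rw [← Scheme.Hom.comp_apply, hc, Scheme.Hom.comp_apply]
    rw [hx, (show Function.Injective j from j.isEmbedding.injective).extend_apply,
      ← SpQS.resTrdeg_precomp q g (SpRelDim.quasiFiniteAt_of_isPreimmersion q x), hc,
      SpQS.resTrdeg_postcomp f j (SpRelDim.quasiFiniteAt_of_isPreimmersion j (f x))]
  have hr : ∀ z : U, z ⤳ u → z ∈ Set.range q := fun z hz => by
    rw [Scheme.Pullback.range_fst, Set.mem_preimage, Scheme.range_fromSpecStalk]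
    exact hu ▸ hz.map g.continuous
  obtain ⟨x, rfl⟩ := hr v hvu
  obtain ⟨y, rfl⟩ := hr w (hwv.trans hvu)
  obtain ⟨h1, h2⟩ := hdim y x (q.isEmbedding.isInducing.specializes_iff.1 hwv) (fun e => hne (congrArg _ e))
  rw [hval, hval] at h1 h2
  refine ⟨h1, fun him => h2 fun z hyz hzx => ?_⟩
  rcases him (q z) (hyz.map q.continuous) (hzx.map q.continuous) with e | e
  · exact Or.inl (q.isEmbedding.injective e)
  · exact Or.inr (q.isEmbedding.injective e)

end Groth.Agent.CatenarySp
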